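import Cfsg.Agent.KFacts.MulEven.Reduce
import Cfsg.Agent.KFacts.MulBound
import Cfsg.Agent.MonsterN.CoverB

/-!
# The Baby Monster: a perfect central extension by a 2-group has kernel of order at most 2

`iso`: uniqueness of the double cover (`MonsterN.CoverB`).  `con`: with the relations `BRels m b z` the involution
`x = m 4 * m 7 * m 9` is conjugate to `x z`: `x z = W213 ^ 9 * x` and `x' = W231 ^ 9 * x'`, `x' = m 7 * m 4 * m 6`, are
both conjugate to the central involution of the `D₄` in the middle, and `x`, `x'` are conjugate.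
-/

set_option autoImplicit false

namespace Cfsg.Agent.KFacts.MulEven.Baby

open Subgroup Cfsg Cfsg.Agent.R01.Lifts Cfsg.Agent.MonsterN.CoverB Cfsg.Agent.TwoESix.Cox10
open Cfsg.Agent.KFacts.MulEven
open scoped commutatorElement

universe u v

/-- `x` -/
def p1 : List (Fin 10) := [4, 7, 9]
/-- `x'` -/
def p2 : List (Fin 10) := [7, 4, 6]
/-- conjugates `W213 ^ 9 * x` to the central involution of `D₄` -/
def g1 : List (Fin 10) := [8, 9, 1, 2, 3, 7, 8, 4, 3, 7, 2, 3, 4, 1, 2, 3, 7, 8, 2, 3, 4, 1, 2, 3]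
/-- conjugates `W231 ^ 9 * x'` to the central involution of `D₄` -/
def g2 : List (Fin 10) := [5, 6, 4, 5, 3, 4, 1, 2, 3, 7, 4, 5, 6, 1, 2, 3, 4, 5, 2, 3, 4, 1, 2, 3]
/-- conjugates `x` to `x'` -/
def k : List (Fin 10) := [8, 7, 9, 8, 3, 4, 5, 6, 7, 3, 4, 5]
/-- the central involution of `D₄` -/
def d4 : List (Fin 10) := rep 3 [3, 2, 4, 7]

theorem chk1 : chk (g1 ++ rep 9 W213 ++ p1) (d4 ++ g1) = true := by decide +kernel
theorem chk2 : chk (g2 ++ rep 9 W231 ++ p2) (d4 ++ g2) = true := by decide +kernel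
theorem chk3 : chk (k ++ p1) (p2 ++ k) = true := by decide +kernel
theorem chk4 : chk (p1 ++ p1) [] = true := by decide +kernel

theorem exists_conj {M : Type u} [Group M] {s : Fin 10 → M} {b z : M} (h : BRels s b z)
    (hz : ∀ g, g * z = z * g) : ∃ g x : M, x * x = 1 ∧ g * x * g⁻¹ = x * z := by
  have e1 := ev_eq_ev h.lift chk1
  have e2 := ev_eq_ev h.lift chk2
  have e3 := ev_eq_ev h.lift chk3
  have e4 := ev_eq_ev h.lift chk4
  simp only [ev_append, ev_rep, h.e213, h.e231, mul_one, ev_nil] at e1 e2 e3 e4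
  set A := ev s k
  set B := ev s g2
  set C := ev s g1
  set x := ev s p1
  have f : (A⁻¹ * B⁻¹ * C) * (z * x) = x * (A⁻¹ * B⁻¹ * C) := by
    calc (A⁻¹ * B⁻¹ * C) * (z * x) = A⁻¹ * B⁻¹ * (C * z * x) := by group
      _ = A⁻¹ * B⁻¹ * (ev s d4 * C) := by rw [e1]
      _ = A⁻¹ * (B⁻¹ * (ev s d4 * B)) * B⁻¹ * C := by group
      _ = A⁻¹ * (B⁻¹ * (B * ev s p2)) * B⁻¹ * C := by rw [e2]
      _ = A⁻¹ * (ev s p2 * A) * A⁻¹ * B⁻¹ * C := by group
      _ = A⁻¹ * (A * x) * A⁻¹ * B⁻¹ * C := by rw [e3]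
      _ = x * (A⁻¹ * B⁻¹ * C) := by group
  refine ⟨(A⁻¹ * B⁻¹ * C)⁻¹, x, e4, ?_⟩
  rw [inv_inv, mul_assoc, ← f, inv_mul_cancel_left, hz x]

theorem con : Con.{u} Spor.BabyMonster := by
  intro M _ π z h hperf
  obtain ⟨m, b, -, -, hr, -⟩ := exists_nodes h hperf
  exact exists_conj hr h.comm

theorem iso : Iso.{u} Spor.BabyMonster := by
  intro M M' _ _ π π' z z' h h' hM hM'
  obtain ⟨α, -, hα⟩ := exists_mulEquiv h h' hM hM'
  exact ⟨α, hα⟩

/-- **The 2-part of the multiplier of the Baby Monster.** -/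
theorem card_le_two {X : Type v} [Group X] (e : X ≃* Spor.BabyMonster) {K : Type u} [Group K] [Finite K]
    (hK : commutator K = ⊤) {f : K →* X} (hf : Function.Surjective f) (hZ : f.ker ≤ center K)
    (h2 : IsPGroup 2 f.ker) : Nat.card f.ker ≤ 2 := by
  have hker : (e.toMonoidHom.comp f).ker = f.ker := by
    ext x
    rw [MonoidHom.mem_ker, MonoidHom.mem_ker]
    exact map_eq_one_iff e e.injective
  have := MulEven.card_le_two (f := e.toMonoidHom.comp f) hK (e.surjective.comp hf) (by rwa [hker])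
    (by rwa [hker]) iso con
  rwa [hker] at this

theorem card_center_le_two {K : Type u} [Group K] [Finite K] (hK : commutator K = ⊤)
    (h2 : IsPGroup 2 (center K)) (e : Nonempty (K ⧸ center K ≃* Spor.BabyMonster)) :
    Nat.card (center K) ≤ 2 :=
  card_le_two_of_quotient hK le_rfl h2 e iso con

/-- `Dbl` and `Ext`. -/
theorem ext_of_dbl {X : Type v} [Group X] {L : Type u} [Group L] {π : L →* X} {c : L} (h : MulDef.Dbl π c) :
    Ext π c where
  surj := h.surj
  zz := h.sq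
  zne := h.ne
  ker := h.ker
  comm := fun x => (h.cen x).symm

/-- The row of the Baby Monster in the form of `MulBound`. -/
theorem oneCover : MulBound.OneCover Spor.BabyMonster where
  uniq := fun L M _ _ _ _ π ρ c d h1 h2 => iso L M π ρ c d (ext_of_dbl h1) (ext_of_dbl h2) h1.perf h2.perf
  real := fun L _ _ π c hd => by
    obtain ⟨g, x, hx, hg⟩ := con L π c (ext_of_dbl hd) hd.perf
    refine ⟨x, g, by rw [hx, map_one], ?_⟩
    have h1 : ⁅x, g⁆ = x * (g * x * g⁻¹)⁻¹ := by rw [commutatorElement_def]; group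
    rw [h1, hg, ← hd.cen x, mul_inv_rev, mul_inv_cancel_left]
    exact inv_eq_of_mul_eq_one_left hd.sq

end Cfsg.Agent.KFacts.MulEven.Baby
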