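import Cfsg.Agent.ChevalleyStructure.CoxeterWordCheck
import Cfsg.Agent.Fischer.ZCentral

/-!
Consequences of the Coxeter relations of the diagram `Y₃₃₂` and the spider relation, for an arbitrary group `G` with
elements `s 0, …, s 8` (printed `a, …, i`; centre `d = s 3`; arms `c b a = s 2, s 1, s 0`, `e f g = s 4, s 5, s 6`,
`h i = s 7, s 8`).  This is `TwoESix.Cox10` without the last node.
-/

set_option autoImplicit false

namespace Cfsg.Agent.KFacts.MulEven.Cox9

open Cfsg.Agent.ChevalleyStructure.CoxeterGeom Cfsg.Agent.ChevalleyStructure.CoxeterWordCheck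

/-- Adjacency in the diagram `Y₃₃₂`. -/
def adj (i j : Fin 9) : Bool :=
  ([(0, 1), (1, 2), (2, 3), (3, 4), (4, 5), (5, 6), (3, 7), (7, 8)] : List (Fin 9 × Fin 9)).any
    fun e => (e.1 == i && e.2 == j) || (e.1 == j && e.2 == i)

/-- The labels. -/
def lab (i j : Fin 9) : ℕ := if i = j then 1 else if adj i j then 3 else 2

theorem lab_symm : ∀ i j : Fin 9, lab j i = lab i j := by decide

theorem lab_diag : ∀ i : Fin 9, lab i i = 1 := by decide

theorem lab_off : ∀ i j : Fin 9, i ≠ j → lab i j ≠ 1 := by decide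

theorem lab_cases : ∀ i j : Fin 9, lab i j = 1 ∧ i = j ∨ lab i j = 2 ∨ lab i j = 3 := by decide

/-- The Coxeter matrix of `Y₃₃₂`. -/
def M9 : CoxeterMatrix (Fin 9) where
  M := Matrix.of lab
  isSymm := Matrix.IsSymm.ext fun i j => lab_symm i j
  diagonal := lab_diag
  off_diagonal := lab_off

theorem M9_apply (i j : Fin 9) : M9 i j = lab i j := rfl

/-- The Cartan matrix of `Y₃₃₂`. -/
def A9 (i j : Fin 9) : ℤ := if i = j then 2 else if adj i j then -1 else 0

theorem A9_diag : ∀ i : Fin 9, A9 i i = 2 := by decide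

theorem A9_rel : ∀ i j : Fin 9, i ≠ j → (lab i j = 2 ∧ A9 i j = 0 ∧ A9 j i = 0) ∨
    (lab i j = 3 ∧ A9 i j = -1 ∧ A9 j i = -1) := by decide

theorem isCartan : IsCartan M9 A9 where
  diag := A9_diag
  rel i j hij := by
    rcases A9_rel i j hij with h | h
    · exact Or.inl h
    · exact Or.inr (Or.inl h)

variable {G : Type*} [Group G]

/-- Value of a word. -/
def ev (s : Fin 9 → G) (w : List (Fin 9)) : G := (w.map s).prod

theorem ev_append (s : Fin 9 → G) (v w : List (Fin 9)) : ev s (v ++ w) = ev s v * ev s w := by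
  rw [ev, ev, ev, List.map_append, List.prod_append]

theorem ev_nil (s : Fin 9 → G) : ev s [] = 1 := rfl

theorem ev_cons (s : Fin 9 → G) (i : Fin 9) (w : List (Fin 9)) : ev s (i :: w) = s i * ev s w := by
  rw [ev, ev, List.map_cons, List.prod_cons]

theorem ev_map {H : Type*} [Group H] (f : G →* H) (s : Fin 9 → G) (w : List (Fin 9)) :
    f (ev s w) = ev (fun i => f (s i)) w := by
  rw [ev, ev, map_list_prod, List.map_map]; rfl

/-- `k`-fold repetition of a word. -/
def rep (k : ℕ) (w : List (Fin 9)) : List (Fin 9) := (List.replicate k w).flatten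

theorem ev_rep (s : Fin 9 → G) (k : ℕ) (w : List (Fin 9)) : ev s (rep k w) = ev s w ^ k := by
  induction k with
  | zero => simp [rep, ev_nil]
  | succ k ih =>
    rw [rep, List.replicate_succ, List.flatten_cons, ev_append, ← rep, ih, pow_succ']

variable {s : Fin 9 → G}

theorem sq (hs : M9.IsLiftable s) (i : Fin 9) : s i * s i = 1 := by
  have := hs i i
  rwa [M9.diagonal, pow_one] at this

theorem ev_reverse (hs : M9.IsLiftable s) (w : List (Fin 9)) : ev s w.reverse = (ev s w)⁻¹ := by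
  induction w with
  | nil => simp [ev_nil]
  | cons i w ih =>
    rw [List.reverse_cons, ev_append, ih, ev_cons, ev_cons, ev_nil, mul_one, mul_inv_rev,
      inv_eq_of_mul_eq_one_left (sq hs i)]

/-- The homomorphism from the Coxeter group. -/
theorem ev_eq_lift (hs : M9.IsLiftable s) (w : List (Fin 9)) :
    ev s w = M9.toCoxeterSystem.lift ⟨s, hs⟩ (M9.toCoxeterSystem.wordProd w) := by
  rw [CoxeterSystem.wordProd, map_list_prod, ev, List.map_map]
  congr 1
  refine List.map_congr_left fun i _ => ?_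
  rw [Function.comp_apply, CoxeterSystem.lift_apply_simple]

/-- The kernel check for the equality of two words in the Coxeter group `Y₃₃₂`. -/
def chk (w w' : List (Fin 9)) : Bool :=
  (List.range 9).all (fun i => actList (rows A9) (w.map (·.val)) (unit 9 i) ==
      actList (rows A9) (w'.map (·.val)) (unit 9 i))

theorem ev_eq_ev (hs : M9.IsLiftable s) {w w' : List (Fin 9)} (h : chk w w' = true) : ev s w = ev s w' := by
  rw [ev_eq_lift hs, ev_eq_lift hs,
    wordProd_eq_wordProd M9.toCoxeterSystem isCartan w w' h]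

/-- The spider word `d c b d e f d h i` -/
def spider : List (Fin 9) := [3, 2, 1, 3, 4, 5, 3, 7, 8]

/-- `a b c d e f h` -/
def WA : List (Fin 9) := [0, 1, 2, 3, 4, 5, 7]
/-- `b c d e f g h` -/
def WB : List (Fin 9) := [1, 2, 3, 4, 5, 6, 7]
/-- `c d e f g h i` -/
def WC : List (Fin 9) := [2, 3, 4, 5, 6, 7, 8]

theorem chk_18 : chk (rep 18 WC) [] = true := by decide +kernel

/-- Three conjugates of the tenth power of the spider have product one. -/
theorem chk_triple : chk (rep 10 spider ++ [8, 7, 5, 1] ++ rep 10 spider ++ [1, 5, 7, 8] ++ [7, 8, 4, 5, 2] ++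
    rep 10 spider ++ [2, 5, 4, 8, 7]) [] = true := by decide +kernel

/-- A central element of exponent two which is the tenth power of the spider is trivial. -/
theorem spider_eq_one (hs : M9.IsLiftable s) (hc : ∀ g : G, ev s spider ^ 10 * g = g * ev s spider ^ 10)
    (h2 : ev s spider ^ 10 * ev s spider ^ 10 = 1) : ev s spider ^ 10 = 1 := by
  have h := ev_eq_ev hs chk_triple
  simp only [ev_append, ev_rep, ev_nil] at h
  have r1 : ev s [1, 5, 7, 8] = (ev s [8, 7, 5, 1])⁻¹ := ev_reverse hs [8, 7, 5, 1]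
  have r2 : ev s [2, 5, 4, 8, 7] = (ev s [7, 8, 4, 5, 2])⁻¹ := ev_reverse hs [7, 8, 4, 5, 2]
  rw [r1, r2] at h
  set S := ev s spider ^ 10 with hS
  have e : S * ev s [8, 7, 5, 1] * S * (ev s [8, 7, 5, 1])⁻¹ * ev s [7, 8, 4, 5, 2] * S *
      (ev s [7, 8, 4, 5, 2])⁻¹ = S * S * S := by
    calc S * ev s [8, 7, 5, 1] * S * (ev s [8, 7, 5, 1])⁻¹ * ev s [7, 8, 4, 5, 2] * S *
          (ev s [7, 8, 4, 5, 2])⁻¹
        = S * (ev s [8, 7, 5, 1] * S) * (ev s [8, 7, 5, 1])⁻¹ * (ev s [7, 8, 4, 5, 2] * S) *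
          (ev s [7, 8, 4, 5, 2])⁻¹ := by simp only [mul_assoc]
      _ = S * (S * ev s [8, 7, 5, 1]) * (ev s [8, 7, 5, 1])⁻¹ * (S * ev s [7, 8, 4, 5, 2]) *
          (ev s [7, 8, 4, 5, 2])⁻¹ := by
          rw [← hc (ev s [8, 7, 5, 1]), ← hc (ev s [7, 8, 4, 5, 2])]
      _ = S * S * S := by group
  rw [e, h2, one_mul] at h
  exact h

/-- the nodes `b, …, i` -/
def idB : Fin 8 → Fin 9 := ![1, 2, 3, 4, 5, 6, 7, 8]

theorem lab_idB : ∀ i j : Fin 8, Fischer.Derived.lab i j = lab (idB i) (idB j) := by decide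

theorem WB_eq (hs : M9.IsLiftable s) (hsp : ev s spider ^ 10 = 1) : ev s WC ^ 9 = ev s WB ^ 9 := by
  have hl : Fischer.Derived.M8.IsLiftable (fun k => s (idB k)) := by
    intro i j
    show (s (idB i) * s (idB j)) ^ Fischer.Derived.lab i j = 1
    rw [lab_idB]
    exact hs _ _
  have e8 : ∀ w : List (Fin 8), Fischer.Derived.ev (fun k => s (idB k)) w = ev s (w.map idB) := by
    intro w
    rw [Fischer.Derived.ev, ev, List.map_map]; rfl
  have h := Fischer.ZCentral.z_eq hl (by rw [e8]; exact hsp)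
  rw [e8, e8] at h
  exact h

end Cfsg.Agent.KFacts.MulEven.Cox9
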