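import Cfsg.Agent.KFacts.MulEven.Lift9
import Cfsg.Agent.KFacts.MulBaer
import Cfsg.Prelude.Def_Spor_Fi22

/-!
# `Fi22`: a perfect central extension by a 2-group has kernel of order at most 2

In a perfect double cover `π : L → Fi22` with kernel `{1, z}` the nodes of `Y₃₃₂` have lifts `m` with the Coxeter and
spider relations, `(a b c d e f h) ^ 9 = 1` and `(b c d e f g h) ^ 9 = z` (`exists_nodes`).  The product of `h`, `c`,
`a` and the product of `h`, `e`, `g` are conjugate in the Coxeter group, and so are `(a b c d e f h) ^ 9 h c a` and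
`(b c d e f g h) ^ 9 h e g`.  Hence there is one commutator in `Fi22` (`s0`, `w0`) which lifts to `z` in every double
cover: `OneCover Fi22`.
-/

set_option autoImplicit false
set_option linter.constructorNameAsVariable false

namespace Cfsg.Agent.KFacts.MulEven.Fi22

open Cfsg Cfsg.Agent.R01.Lifts Cfsg.Agent.KFacts.MulEven.Cox9 Cfsg.Agent.KFacts.MulEven.Lift9
open Cfsg.Agent.KFacts Cfsg.Agent.KFacts.MulDef
open scoped commutatorElement

universe u

/-- The relations. -/
structure FRels {G : Type*} [Group G] (s : Fin 9 → G) (z : G) : Prop where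
  lift : M9.IsLiftable s
  spider : ev s spider ^ 10 = 1
  eA : ev s WA ^ 9 = 1
  eB : ev s WB ^ 9 = z

/-- the generator of the index `i` -/
def gen : Fin 9 → Spor.Fi22.Gen := ![.a, .b, .c, .d, .e, .f, .g, .h, .i]

/-- the index of a generator -/
def idx : Spor.Fi22.Gen → Fin 9
  | .a => 0
  | .b => 1
  | .c => 2
  | .d => 3
  | .e => 4
  | .f => 5
  | .g => 6
  | .h => 7
  | .i => 8

theorem gen_idx : ∀ g, gen (idx g) = g := by intro g; cases g <;> rfl

theorem lab_gen : ∀ i j, Spor.coxLabel Spor.Fi22.edges (gen i) (gen j) = lab i j := by decide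

theorem mem_nodes : ∀ i, gen i ∈ Spor.coxNodes Spor.Fi22.edges := by decide

theorem mem_nodes' (g : Spor.Fi22.Gen) : g ∈ Spor.coxNodes Spor.Fi22.edges := by
  cases g <;> decide

/-- the nodes -/
def e0 (i : Fin 9) : Spor.Fi22 := PresentedGroup.of (gen i)

theorem frels_std : FRels e0 1 := by
  have key : ∀ r ∈ Spor.coxRelators Spor.Fi22.edges ∪ {r | r ∈ Spor.Fi22.extra},
      PresentedGroup.mk (Spor.coxRelators Spor.Fi22.edges ∪ {r | r ∈ Spor.Fi22.extra}) r = 1 :=
    fun r hr => PresentedGroup.one_of_mem hr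
  refine ⟨fun i j => ?_, ?_, ?_, ?_⟩
  · have := key _ (Or.inl ⟨gen i, mem_nodes i, gen j, mem_nodes j, rfl⟩)
    rw [map_pow, map_mul, lab_gen] at this
    exact this
  · have := key _ (Or.inr (show _ ∈ Spor.Fi22.extra from List.mem_cons_self))
    rw [map_pow] at this
    simp only [map_mul] at this
    simp only [Cox9.spider, ev, List.map_cons, List.map_nil, List.prod_cons, List.prod_nil, mul_one]
    simp only [mul_assoc] at this
    exact this
  · have := key _ (Or.inr (show _ ∈ Spor.Fi22.extra from List.mem_cons_of_mem _ List.mem_cons_self))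
    rw [map_pow] at this
    simp only [map_mul] at this
    simp only [WA, ev, List.map_cons, List.map_nil, List.prod_cons, List.prod_nil, mul_one]
    simp only [mul_assoc] at this
    exact this
  · have := key _ (Or.inr (show _ ∈ Spor.Fi22.extra from
      List.mem_cons_of_mem _ (List.mem_cons_of_mem _ List.mem_cons_self)))
    rw [map_pow] at this
    simp only [map_mul] at this
    simp only [WB, ev, List.map_cons, List.map_nil, List.prod_cons, List.prod_nil, mul_one]
    simp only [mul_assoc] at this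
    exact this

theorem FRels.exists_hom {G : Type*} [Group G] {s : Fin 9 → G} (h : FRels s 1) :
    ∃ φ : Spor.Fi22 →* G, ∀ i, φ (e0 i) = s i := by
  have hr : ∀ r ∈ Spor.coxRelators Spor.Fi22.edges ∪ {r | r ∈ Spor.Fi22.extra},
      FreeGroup.lift (fun g => s (idx g)) r = 1 := by
    rintro r (⟨x, -, y, -, rfl⟩ | hr)
    · rw [map_pow, map_mul, FreeGroup.lift_apply_of, FreeGroup.lift_apply_of]
      have h1 := h.lift (idx x) (idx y)
      rw [M9_apply, ← lab_gen, gen_idx, gen_idx] at h1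
      exact h1
    · have hr' : r ∈ Spor.Fi22.extra := hr
      simp only [Spor.Fi22.extra, List.mem_cons, List.not_mem_nil, or_false] at hr'
      rcases hr' with rfl | rfl | rfl
      · have h1 := h.spider
        simp only [Cox9.spider, ev, List.map_cons, List.map_nil, List.prod_cons, List.prod_nil, mul_one] at h1
        simp only [map_pow, map_mul, FreeGroup.lift_apply_of, mul_assoc]
        exact h1
      · have h1 := h.eA
        simp only [WA, ev, List.map_cons, List.map_nil, List.prod_cons, List.prod_nil, mul_one] at h1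
        simp only [map_pow, map_mul, FreeGroup.lift_apply_of, mul_assoc]
        exact h1
      · have h1 := h.eB
        simp only [WB, ev, List.map_cons, List.map_nil, List.prod_cons, List.prod_nil, mul_one] at h1
        simp only [map_pow, map_mul, FreeGroup.lift_apply_of, mul_assoc]
        exact h1
  refine ⟨PresentedGroup.toGroup hr, fun i => ?_⟩
  have h1 : PresentedGroup.toGroup hr (e0 i) = s (idx (gen i)) := PresentedGroup.toGroup.of hr
  have h2 : ∀ i, idx (gen i) = i := by decide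
  rw [h1, h2]

theorem hom_ext {G : Type*} [Group G] {φ ψ : Spor.Fi22 →* G} (h : ∀ i, φ (e0 i) = ψ (e0 i)) : φ = ψ := by
  apply PresentedGroup.ext
  intro g
  have := h (idx g)
  unfold e0 at this
  rwa [gen_idx] at this

/-! ### Lifting -/

section

variable {M E : Type*} [Group M] [Group E] {π : M →* E} {z : M}

theorem mul_z_mul (h : Ext π z) (x y : M) : x * z * (y * z) = x * y := by
  calc x * z * (y * z) = x * (z * y) * z := by group
    _ = x * (y * z) * z := by rw [h.comm y]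
    _ = x * y * z * z := by group
    _ = x * y := h.mul_z_mul_z _

theorem lift_mul_z (h : Ext π z) {m : Fin 9 → M} (hl : M9.IsLiftable m) :
    M9.IsLiftable (fun i => m i * z) := by
  intro i j
  show (m i * z * (m j * z)) ^ _ = 1
  rw [mul_z_mul h]
  exact hl i j

theorem spider_mul_z (h : Ext π z) {m : Fin 9 → M} (hsp : ev m Cox9.spider ^ 10 = 1) :
    ev (fun i => m i * z) Cox9.spider ^ 10 = 1 := by
  have hl : (Cox9.spider).length = 9 := rfl
  have h9 : z ^ 9 = z := pow_odd_of_sq h.zz (by decide)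
  rw [ev_mul_z h, hl, h9]
  have hcom : Commute (ev m Cox9.spider) z := h.comm _
  have h10 : z ^ 10 = 1 := by
    rw [show (10 : ℕ) = 2 * 5 from rfl, pow_mul, pow_two, h.zz, one_pow]
  rw [hcom.mul_pow, hsp, h10, one_mul]

/-- **Lifts of the nodes.** -/
theorem exists_lifts (h : Ext π z) {e : Fin 9 → E} (he : FRels e 1) :
    ∃ m : Fin 9 → M, (∀ i, π (m i) = e i) ∧ (FRels m 1 ∨ FRels m z) := by
  obtain ⟨m, hm, hl, hsp⟩ := exists_cox h he.lift he.spider he.eB
  have hmap : ∀ w : List (Fin 9), ev e w ^ 9 = 1 → ev m w ^ 9 = 1 ∨ ev m w ^ 9 = z := by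
    intro w hw
    apply (h.ker _).1
    rw [map_pow, ev_map, ← hw]
    congr 2
    funext i; exact hm i
  have l2 : WA.length = 7 := rfl
  have l3 : WB.length = 7 := rfl
  have hm' : ∀ i, π (m i * z) = e i := fun i => by rw [map_mul, h.mapz, mul_one]; exact hm i
  have hl' := lift_mul_z h hl
  have hsp' := spider_mul_z h hsp
  rcases hmap WA he.eA with h2 | h2 <;> rcases hmap WB he.eB with h3 | h3
  · exact ⟨m, hm, Or.inl ⟨hl, hsp, h2, h3⟩⟩
  · exact ⟨m, hm, Or.inr ⟨hl, hsp, h2, h3⟩⟩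
  · refine ⟨fun i => m i * z, hm', Or.inr ⟨hl', hsp', ?_, ?_⟩⟩
    · rw [ev7_mul_z h m l2, h2, h.zz]
    · rw [ev7_mul_z h m l3, h3, one_mul]
  · refine ⟨fun i => m i * z, hm', Or.inl ⟨hl', hsp', ?_, ?_⟩⟩
    · rw [ev7_mul_z h m l2, h2, h.zz]
    · rw [ev7_mul_z h m l3, h3, h.zz]

end

theorem ext_of_dbl {X : Type*} [Group X] {L : Type u} [Group L] {π : L →* X} {c : L} (h : Dbl π c) :
    Ext π c where
  surj := h.surj
  zz := h.sq
  zne := h.ne
  ker := h.ker
  comm := fun x => (h.cen x).symm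

theorem exists_nodes {L : Type u} [Group L] [Finite L] {π : L →* Spor.Fi22} {z : L} (hd : Dbl π z) :
    ∃ m : Fin 9 → L, (∀ i, π (m i) = e0 i) ∧ FRels m z := by
  obtain ⟨m, hm, hr | hr⟩ := exists_lifts (ext_of_dbl hd) frels_std
  · exfalso
    obtain ⟨σ, hσ⟩ := hr.exists_hom
    have hs : π.comp σ = MonoidHom.id _ := hom_ext fun i => by
      show π (σ (e0 i)) = e0 i
      rw [hσ, hm]
    refine hd.toCtr.false_of_compl (P := ⊤) (P₁ := σ.range) (Subgroup.mem_top z) ?_ ?_ ?_
    · rw [Subgroup.index_top]; norm_num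
    · rintro ⟨x, hx⟩
      have h1 : π (σ x) = x := DFunLike.congr_fun hs x
      rw [hx, (hd.ker z).2 (Or.inr rfl)] at h1
      rw [← h1, map_one] at hx
      exact hd.ne hx.symm
    · intro x _
      have h1 : π (σ (π x)) = π x := DFunLike.congr_fun hs (π x)
      rcases (ext_of_dbl hd).map_eq.1 h1.symm with h2 | h2
      · exact Or.inl ⟨π x, h2.symm⟩
      · refine Or.inr ⟨π x, ?_⟩
        have h3 : ∀ y, x = y * z → y = z * x := by
          rintro y rfl
          rw [hd.cen, mul_assoc, hd.sq, mul_one]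
        exact h3 _ h2
  · exact ⟨m, hm, hr⟩

/-! ### The commutator -/

/-- `x` -/
def p1 : List (Fin 9) := [7, 2, 0]
/-- `x'` -/
def p2 : List (Fin 9) := [7, 4, 6]
/-- conjugates `WA ^ 9 * x` to the central involution of `D₄` -/
def g1 : List (Fin 9) := [5, 1, 2, 3, 4, 0, 1, 2, 3, 7, 2, 3, 4, 5, 1, 2, 3, 4, 0, 1, 2, 3, 0, 1]
/-- conjugates `WB ^ 9 * x'` to the central involution of `D₄` -/
def g2 : List (Fin 9) := [5, 6, 4, 5, 3, 4, 1, 2, 3, 7, 4, 5, 6, 1, 2, 3, 4, 5, 2, 3, 4, 1, 2, 3]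
/-- conjugates `x` to `x'` -/
def k : List (Fin 9) := [8, 7, 3, 4, 5, 6, 2, 3, 4, 5, 1, 2, 3, 4, 0, 1, 2, 3, 7, 8]
/-- the central involution of `D₄` -/
def d4 : List (Fin 9) := rep 3 [3, 2, 4, 7]

theorem chk1 : chk (g1 ++ rep 9 WA ++ p1) (d4 ++ g1) = true := by decide +kernel
theorem chk2 : chk (g2 ++ rep 9 WB ++ p2) (d4 ++ g2) = true := by decide +kernel
theorem chk3 : chk (k ++ p1) (p2 ++ k) = true := by decide +kernel
theorem chk4 : chk (p1 ++ p1) [] = true := by decide +kernel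

/-- the second entry of the commutator, for any nodes -/
def wd {G : Type*} [Group G] (s : Fin 9 → G) : G := (ev s k)⁻¹ * (ev s g2)⁻¹ * ev s g1

theorem wd_conj {G : Type*} [Group G] {s : Fin 9 → G} {z : G} (h : FRels s z) (hz : ∀ g, g * z = z * g)
    (hzz : z * z = 1) : ev s p1 * ev s p1 = 1 ∧ ⁅ev s p1, wd s⁆ = z := by
  have e1 := ev_eq_ev h.lift chk1
  have e2 := ev_eq_ev h.lift chk2
  have e3 := ev_eq_ev h.lift chk3
  have e4 := ev_eq_ev h.lift chk4
  simp only [ev_append, ev_rep, h.eA, h.eB, mul_one, ev_nil] at e1 e2 e3 e4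
  refine ⟨e4, ?_⟩
  unfold wd
  set A := ev s k
  set B := ev s g2
  set C := ev s g1
  set x := ev s p1
  have f : (A⁻¹ * B⁻¹ * C) * x = x * z * (A⁻¹ * B⁻¹ * C) := by
    calc (A⁻¹ * B⁻¹ * C) * x = A⁻¹ * B⁻¹ * (C * x) := by group
      _ = A⁻¹ * B⁻¹ * (ev s d4 * C) := by rw [e1]
      _ = A⁻¹ * (B⁻¹ * (ev s d4 * B)) * B⁻¹ * C := by group
      _ = A⁻¹ * (B⁻¹ * (B * z * ev s p2)) * B⁻¹ * C := by rw [e2]
      _ = A⁻¹ * (z * ev s p2) * B⁻¹ * C := by group
      _ = A⁻¹ * (ev s p2 * z) * B⁻¹ * C := by rw [hz (ev s p2)]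
      _ = A⁻¹ * (ev s p2 * (A * A⁻¹) * z) * B⁻¹ * C := by rw [mul_inv_cancel, mul_one]
      _ = A⁻¹ * (ev s p2 * A) * (A⁻¹ * z) * B⁻¹ * C := by group
      _ = A⁻¹ * (A * x) * (A⁻¹ * z) * B⁻¹ * C := by rw [e3]
      _ = A⁻¹ * (A * x) * (z * A⁻¹) * B⁻¹ * C := by rw [hz A⁻¹]
      _ = x * z * (A⁻¹ * B⁻¹ * C) := by group
  set w := A⁻¹ * B⁻¹ * C
  have zi : z⁻¹ = z := inv_eq_of_mul_eq_one_left hzz
  calc ⁅x, w⁆ = x * (w * x * w⁻¹)⁻¹ := by rw [commutatorElement_def]; group
    _ = x * (x * z)⁻¹ := by rw [f, mul_inv_cancel_right]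
    _ = x * (z * x)⁻¹ := by rw [hz]
    _ = z := by rw [mul_inv_rev, mul_inv_cancel_left, zi]

theorem wd_map {G H : Type*} [Group G] [Group H] (f : G →* H) (s : Fin 9 → G) : f (wd s) = wd (fun i => f (s i)) := by
  unfold wd
  rw [map_mul, map_mul, map_inv, map_inv, ev_map, ev_map, ev_map]

/-- **The 2-part of the multiplier of `Fi22`.** -/
theorem oneCover : MulBound.OneCover Spor.Fi22 := by
  have h1 := ev_eq_ev frels_std.lift chk4
  rw [ev_append, ev_nil] at h1
  refine MulBaer.oneCover_of (s := ev e0 p1) (w := wd e0) h1 ?_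
  intro K _ _ π c hd x y hx hy
  obtain ⟨m, hm, hr⟩ := exists_nodes hd
  have hc : ∀ g, g * c = c * g := fun g => (hd.cen g).symm
  have hm' : (fun i => π (m i)) = e0 := funext hm
  obtain ⟨-, h2⟩ := wd_conj hr hc hd.sq
  have ex : π x = π (ev m p1) := by rw [hx, ev_map, hm']
  have ey : π y = π (wd m) := by rw [hy, wd_map, hm']
  have key : ∀ a b : K, a = b ∨ a = b * c → ∃ t, (∀ g, g * t = t * g) ∧ a = b * t := by
    rintro a b (rfl | rfl)
    · exact ⟨1, by simp, by simp⟩
    · exact ⟨c, hc, rfl⟩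
  obtain ⟨t, ht, rfl⟩ := key _ _ ((ext_of_dbl hd).map_eq.1 ex)
  obtain ⟨t', ht', rfl⟩ := key _ _ ((ext_of_dbl hd).map_eq.1 ey)
  rw [← h2, commutatorElement_def, commutatorElement_def]
  have hti : ∀ g, g * t⁻¹ = t⁻¹ * g := fun g => by
    rw [mul_inv_eq_iff_eq_mul, mul_assoc, ht g, inv_mul_cancel_left]
  have hti' : ∀ g, g * t'⁻¹ = t'⁻¹ * g := fun g => by
    rw [mul_inv_eq_iff_eq_mul, mul_assoc, ht' g, inv_mul_cancel_left]
  calc ev m p1 * t * (wd m * t') * (ev m p1 * t)⁻¹ * (wd m * t')⁻¹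
      = ev m p1 * (t * (wd m * t') * t⁻¹) * (ev m p1)⁻¹ * t'⁻¹ * (wd m)⁻¹ := by group
    _ = ev m p1 * (wd m * t') * (ev m p1)⁻¹ * t'⁻¹ * (wd m)⁻¹ := by
        rw [← ht (wd m * t'), mul_inv_cancel_right]
    _ = ev m p1 * wd m * (t' * (ev m p1)⁻¹ * t'⁻¹) * (wd m)⁻¹ := by group
    _ = ev m p1 * wd m * (ev m p1)⁻¹ * (wd m)⁻¹ := by rw [← ht' (ev m p1)⁻¹, mul_inv_cancel_right]

/-- The 2-part of the multiplier has order at most 2. -/
theorem card_le_two {X : Type*} [Group X] (e : X ≃* Spor.Fi22) {K : Type u} [Group K] [Finite K]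
    (hK : commutator K = ⊤) {f : K →* X} (hf : Function.Surjective f) (hZ : f.ker ≤ Subgroup.center K)
    (h2 : IsPGroup 2 f.ker) : Nat.card f.ker ≤ 2 := by
  have : Fact (Nat.Prime 2) := ⟨Nat.prime_two⟩
  have h4 := (MulBaer.OneCover.congr oneCover e.symm).not_four_dvd hK hf hZ
  obtain ⟨n, hn⟩ := h2.exists_card_eq
  rw [hn] at h4 ⊢
  rcases Nat.lt_or_ge n 2 with h | h
  · calc 2 ^ n ≤ 2 ^ 1 := Nat.pow_le_pow_right (by norm_num) (by omega)
      _ = 2 := by norm_num
  · exact absurd (pow_dvd_pow 2 h) h4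

end Cfsg.Agent.KFacts.MulEven.Fi22
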